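import Groth.Agent.L27.MemRange.Local
import Groth.Agent.L27.XV.Product

/-! # Classes over rings with local domains -/

universe u

open CategoryTheory CategoryTheory.Limits AlgebraicGeometry Opposite IsLocalRing Abelian

set_option autoImplicit false
set_option backward.isDefEq.respectTransparency.types false
set_option linter.style.haveILetI false
set_option linter.unusedSectionVars false

noncomputable section

namespace Groth.L27.MemRange

open Groth.L27.LimCoh Groth.L27.LimBC Groth.L27.FinBC Groth.L27.XV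

/-- Unit and higher direct images from one point over each point. -/
theorem unit_of_points {U W : Scheme.{u}} (h : U ⟶ W) [PreservesFiniteLimits (EtCoh.pull h)] (M : EtCoh.Ab W) (m : ℕ)
    (H : ∀ y : W, ∃ (K : Type u) (_ : Field K) (_ : IsSepClosed K) (ξ : Spec (CommRingCat.of K) ⟶ W),
      ξ.base default = y ∧ Function.Bijective ((EtCoh.stalk ξ).map ((EtCoh.pullPushAdj h).unit.app M)) ∧
      ∀ q : ℕ, 0 < q → q ≤ m → IsZero ((EtCoh.stalk ξ).obj ((EtCoh.Rpush h q).obj ((EtCoh.pull h).obj M)))) :
    IsIso ((EtCoh.pullPushAdj h).unit.app M) ∧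
      ∀ q : ℕ, 1 ≤ q → q ≤ m → IsZero ((EtCoh.Rpush h q).obj ((EtCoh.pull h).obj M)) := by
  let φ := (EtCoh.pullPushAdj h).unit.app M
  haveI : Mono φ := by
    have : Sheaf.IsLocallyInjective φ := EtSite.isLocallyInjective_of_some_stalks _ fun y => by
      obtain ⟨K, _, _, ξ, hξ, hb, -⟩ := H y
      exact ⟨K, _, inferInstance, ξ, hξ, hb.1⟩
    exact Sheaf.mono_of_isLocallyInjective _
  haveI : Epi φ :=
    (Sheaf.isLocallySurjective_iff_epi' (φ := φ)).1 (EtSite.isLocallySurjective_of_some_stalks _ fun y => by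
      obtain ⟨K, _, _, ξ, hξ, hb, -⟩ := H y
      exact ⟨K, _, inferInstance, ξ, hξ, hb.2⟩)
  refine ⟨isIso_of_mono_of_epi φ, fun p h1 h2 => EtSite.isZero_of_stalks _ fun y => ?_⟩
  obtain ⟨K, _, _, ξ, hξ, -, hz⟩ := H y
  exact ⟨K, _, inferInstance, ξ, hξ, hz p h1 h2⟩

/-- An algebraic geometric point at the generic point of an integral algebra. -/
theorem exists_genericPoint (R N : Type u) [CommRing R] [CommRing N] [IsDomain N] [Algebra R N]
    [Algebra.IsIntegral R N] :
    ∃ (Ω : Type u) (_ : Field Ω) (_ : IsSepClosed Ω) (_ : Algebra N Ω) (_ : Function.Injective (algebraMap N Ω))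
      (z : Spec (CommRingCat.of R)) (_ : Algebra ((Spec (CommRingCat.of R)).residueField z) Ω)
      (_ : Algebra.IsAlgebraic ((Spec (CommRingCat.of R)).residueField z) Ω),
      EtAcyc.geomPt (Spec (CommRingCat.of R)) z Ω =
        Spec.map (CommRingCat.ofHom (algebraMap N Ω)) ≫ Spec.map (CommRingCat.ofHom (algebraMap R N)) := by
  let Ω := AlgebraicClosure (FractionRing N)
  haveI : IsSepClosed Ω := inferInstance
  haveI : Algebra.IsAlgebraic N Ω := by
    haveI : Algebra.IsAlgebraic N (FractionRing N) := IsLocalization.isAlgebraic _ (nonZeroDivisors N)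
    exact Algebra.IsAlgebraic.trans N (FractionRing N) Ω
  have hinj : Function.Injective (algebraMap N Ω) := fun x y h => by
    refine IsFractionRing.injective N (FractionRing N) ((algebraMap (FractionRing N) Ω).injective ?_)
    rw [← IsScalarTower.algebraMap_apply, ← IsScalarTower.algebraMap_apply]
    exact h
  let S := Spec (CommRingCat.of R)
  let sΩ := Spec.map (CommRingCat.ofHom (algebraMap N Ω))
  let t : Spec (CommRingCat.of Ω) ⟶ S := sΩ ≫ Spec.map (CommRingCat.ofHom (algebraMap R N))
  let z : S := t (closedPoint Ω)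
  let d := S.descResidueField (Scheme.stalkClosedPointTo t)
  have hd : Spec.map d ≫ S.fromSpecResidueField z = t :=
    Scheme.descResidueField_stalkClosedPointTo_fromSpecResidueField Ω S t
  letI : Algebra (S.residueField z) Ω := d.hom.toAlgebra
  let ρ : CommRingCat.of R ⟶ S.residueField z :=
    CommRingCat.ofHom (algebraMap R z.asIdeal.ResidueField) ≫
      (Scheme.Spec.residueFieldIso (CommRingCat.of R) z).inv
  have hρ : d.hom.comp ρ.hom = (algebraMap N Ω).comp (algebraMap R N) := by
    have h1 : ρ ≫ d = CommRingCat.ofHom ((algebraMap N Ω).comp (algebraMap R N)) := by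
      apply Spec.map_injective
      rw [Spec.map_comp]
      refine Eq.trans ?_ (hd.trans (Spec.map_comp _ _).symm)
      refine congrArg (Spec.map d ≫ ·) ?_
      exact (Spec.map_comp _ _).trans (Scheme.Spec.map_residueFieldIso_inv_eq_fromSpecResidueField _ _)
    exact congrArg CommRingCat.Hom.hom h1
  haveI : Algebra.IsAlgebraic (S.residueField z) Ω := isAlgebraic_of_image hinj fun x => by
    obtain ⟨P, hm, hP⟩ : IsIntegral R x := Algebra.IsIntegral.isIntegral x
    refine ⟨P.map ρ.hom, hm.map _, ?_⟩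
    rw [Polynomial.eval₂_map, show (algebraMap (S.residueField z) Ω).comp ρ.hom = d.hom.comp ρ.hom from rfl, hρ,
      ← Polynomial.hom_eval₂, hP, map_zero]
  exact ⟨Ω, inferInstance, inferInstance, inferInstance, hinj, z, inferInstance, inferInstance, hd⟩

section Chart

variable (R' : Type u) [CommRing R'] [HenselianLocalRing R'] [IsSepClosed (ResidueField R')] {X' : Scheme.{u}}
  (g' : X' ⟶ Spec (CommRingCat.of R')) [QuasiCompact g'] [QuasiSeparated g'] (L : Set ℕ) (hL : ∃ ℓ ∈ L, ℓ.Prime)
  (m : ℕ) (hloc : EtAcyc.IsLocAcyclicN g' L m) (hf : EtAcyc.GeomFibresAcyclicN L m g')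
  (O : Type u) [CommRing O] [IsDomain O] [HenselianLocalRing O] [IsAlgClosed (ResidueField O)]
  [Algebra R' O] [Algebra.IsIntegral R' O] (hO : L20.IntCover.HasRoots O) {WO : Scheme.{u}} (w : WO ⟶ X')
  (k : WO ⟶ Spec (CommRingCat.of O)) (cO : IsPullback w k g' (Spec.map (CommRingCat.ofHom (algebraMap R' O))))
  [PreservesFiniteLimits (EtCoh.pull k)]
  (KA : AddCommGrpCat.{u + 1}) (hA : ∀ t : KA, ∃ k, EtAcyc.PrimesIn L k ∧ k • t = 0)

include hL hloc hf hO cO hA in
/-- Bijectivity over a local domain up to the acyclicity degree. -/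
theorem bijective_chart (p : ℕ) (hp : p ≤ m) :
    Function.Bijective (EtCore.Hpull k (ConstSect.K KA (Spec (CommRingCat.of O))) p) := by
  haveI : QuasiCompact k := MorphismProperty.of_isPullback (P := @QuasiCompact) cO inferInstance
  haveI : QuasiSeparated k := MorphismProperty.of_isPullback (P := @QuasiSeparated) cO inferInstance
  haveI : CompactSpace WO := QuasiCompact.compactSpace_of_compactSpace k
  haveI : QuasiSeparatedSpace WO := quasiSeparatedSpace_of_quasiSeparated k
  rcases Nat.eq_zero_or_pos p with rfl | hp0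
  · obtain ⟨ℓ, hℓL, hℓ⟩ := hL
    haveI : Fact ℓ.Prime := ⟨hℓ⟩
    haveI : NeZero ℓ := ⟨hℓ.ne_zero⟩
    let sφ := Spec.map (CommRingCat.ofHom (algebraMap R' O))
    haveI : IsIntegralHom sφ := IsIntegralHom.SpecMap_iff.2 (algebraMap_isIntegral_iff.2 inferInstance)
    haveI : IsIntegralHom w := MorphismProperty.of_isPullback (P := @IsIntegralHom) cO.flip inferInstance
    let C := EtCoh.const (Spec (CommRingCat.of O)) (ZMod ℓ)
    haveI := EtSite.preservesFiniteLimits_pull g'
    haveI := EtSite.preservesFiniteLimits_pull sφ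
    haveI := EtSite.preservesFiniteLimits_pull w
    have hb := bijective_zero R' g' (surjStrict_of_loc g' L ⟨ℓ, hℓL, hℓ⟩ m hloc)
      (geomFibres_mono (Nat.zero_le _) hf) ((EtCoh.push sφ).obj C)
    haveI := EtSite.BC.isIso_baseChange0 cO.flip C
    let i₁ := (EtCoh.HF X' 0).mapIso (asIso (EtCoh.baseChange0 sφ g' w k cO.flip.w C) ≪≫
      (EtCoh.push w).mapIso (EtCore.pullConst k (ZMod ℓ)))
    have hw := EtSite.bijective_HofPush w (EtCoh.const WO (ZMod ℓ))
      (fun p hp => EtSite.isZero_Rpush_of_propB w (EtSite.propB_of_isIntegralHom w) _ p hp) 0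
    have hs := EtSite.bijective_HofPush sφ C
      (fun p hp => EtSite.isZero_Rpush_of_propB sφ (EtSite.propB_of_isIntegralHom sφ) _ p hp) 0
    let e : EtCoh.H WO (EtCoh.const WO (ZMod ℓ)) 0 ≃+ ZMod ℓ :=
      ((((AddEquiv.ofBijective _ hw).symm.trans i₁.addCommGroupIsoToAddEquiv.symm).trans
        (AddEquiv.ofBijective _ hb).symm).trans (AddEquiv.ofBijective _ hs)).trans (FinBC.isPt_strict (n := ℓ) O).2.some
    obtain ⟨_, _⟩ := connectedSpace_of_H0 WO ⟨e⟩
    haveI : ConnectedSpace ↥(Spec (CommRingCat.of O)) := FinBC.connectedSpace_local O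
    exact bijective_Hpull_zero_K k KA
  · obtain ⟨m', rfl⟩ : ∃ m', m = m' + 1 := ⟨m - 1, by omega⟩
    haveI := EtSite.subsingleton_H O (ConstSect.K KA _) p hp0
    haveI : Subsingleton (EtCoh.H WO (ConstSect.K KA WO) p) :=
      subsingleton_H_domain g' L hL m' (isLocAcyclicN_mono (Nat.le_succ m') hloc) hf O hO w k cO KA hA p hp0 hp
    haveI : Subsingleton (EtCoh.H WO ((EtCoh.pull k).obj (ConstSect.K KA _)) p) :=
      @Equiv.subsingleton _ _ ((EtCoh.HF WO p).mapIso ((EtCore.pullConstIso k).app KA)).addCommGroupIsoToAddEquiv.toEquiv this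
    exact ⟨fun _ _ _ => Subsingleton.elim _ _, fun b => ⟨0, Subsingleton.elim _ _⟩⟩

end Chart

/-- A class on a ring with local domains which dies on all geometric fibres is zero. -/
theorem eq_zero_localDomain {R : Type u} [CommRing R] {X : Scheme.{u}} (g : X ⟶ Spec (CommRingCat.of R))
    [QuasiCompact g] [QuasiSeparated g] (L : Set ℕ) (hL : ∃ ℓ ∈ L, ℓ.Prime) (m : ℕ)
    (hloc : EtAcyc.IsLocAcyclicN g L m) (hf : EtAcyc.GeomFibresAcyclicN L m g)
    (N : Type u) [CommRing N] [Algebra R N] [Algebra.IsIntegral R N] (hroots : L20.IntCover.HasRoots N)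
    (hdom : ∀ (t : Ideal N) [t.IsPrime], IsDomain (Localization.AtPrime t)) {W : Scheme.{u}} (a : W ⟶ X)
    (bW : W ⟶ Spec (CommRingCat.of N))
    (cW : IsPullback a bW g (Spec.map (CommRingCat.ofHom (algebraMap R N)))) (KA : AddCommGrpCat.{u + 1})
    (hA : ∀ t : KA, ∃ k, EtAcyc.PrimesIn L k ∧ k • t = 0)
    [Subsingleton (EtCoh.H (Spec (CommRingCat.of N)) (ConstSect.K KA (Spec (CommRingCat.of N))) (m + 1))]
    (ω : EtCoh.H W (ConstSect.K KA W) (m + 1))
    (hω : ∀ (Ω : Type u) [Field Ω] [IsSepClosed Ω] (z : Spec (CommRingCat.of R))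
      [Algebra ((Spec (CommRingCat.of R)).residueField z) Ω]
      [Algebra.IsAlgebraic ((Spec (CommRingCat.of R)).residueField z) Ω] {U : Scheme.{u}} (h : U ⟶ W)
      (c : U ⟶ pullback g (EtAcyc.geomPt (Spec (CommRingCat.of R)) z Ω)),
      h ≫ a = c ≫ pullback.fst g _ → ∀ [PreservesFiniteLimits (EtCoh.pull h)],
        EtCore.Hpull h (ConstSect.K KA W) (m + 1) ω = 0) : ω = 0 := by
  let sR := Spec.map (CommRingCat.ofHom (algebraMap R N))
  haveI : IsIntegralHom sR := by
    rw [IsIntegralHom.SpecMap_iff]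
    exact algebraMap_isIntegral_iff.mpr inferInstance
  haveI : QuasiCompact bW := MorphismProperty.of_isPullback (P := @QuasiCompact) cW inferInstance
  haveI : QuasiSeparated bW := MorphismProperty.of_isPullback (P := @QuasiSeparated) cW inferInstance
  haveI := EtSite.preservesFiniteLimits_pull bW
  let M := ConstSect.K KA (Spec (CommRingCat.of N))
  let ε := (EtCore.pullConstIso bW).app KA
  let ω' := (EtCoh.HF W (m + 1)).map ε.inv ω
  suffices hr : ω' ∈ Set.range (EtCore.Hpull bW M (m + 1)) by
    obtain ⟨d, hd⟩ := hr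
    rw [Subsingleton.elim (α := EtCoh.H (Spec (CommRingCat.of N)) M (m + 1)) d 0, map_zero] at hd
    exact (ConcreteCategory.bijective_of_isIso ((EtCoh.HF W (m + 1)).map ε.inv)).1
      (hd.symm.trans (map_zero _).symm)
  have key : ∀ n : Spec (CommRingCat.of N), ∃ (K : Type u) (_ : Field K) (_ : IsSepClosed K)
      (ξ : Spec (CommRingCat.of K) ⟶ Spec (CommRingCat.of N)),
      ξ.base default = n ∧ (Function.Bijective ((EtCoh.stalk ξ).map ((EtCoh.pullPushAdj bW).unit.app M)) ∧
      ∀ q : ℕ, 0 < q → q ≤ m → IsZero ((EtCoh.stalk ξ).obj ((EtCoh.Rpush bW q).obj ((EtCoh.pull bW).obj M)))) ∧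
      ∃ V : (Spec (CommRingCat.of N)).Etale, (∃ v : V.left, V.hom v = n) ∧
        ∀ [PreservesFiniteLimits (EtCoh.pull (pullback.snd V.hom bW))],
          EtCore.Hpull (pullback.snd V.hom bW) _ (m + 1) ω' = 0 := by
    intro n
    let O := (Spec (CommRingCat.of N)).presheaf.stalk n
    letI : Algebra N O := (StructureSheaf.toStalk N n).hom.toAlgebra
    haveI : IsLocalization.AtPrime O n.asIdeal := StructureSheaf.IsLocalization.to_stalk N n
    haveI : IsDomain O := by
      haveI := hdom n.asIdeal
      exact (IsLocalization.algEquiv n.asIdeal.primeCompl O (Localization.AtPrime n.asIdeal)).toMulEquiv.isDomain _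
    have hO : L20.IntCover.HasRoots O := L20.IntCover.hasRoots_localization hroots n.asIdeal.primeCompl
    haveI : HenselianLocalRing O := L20.IntCover.henselianLocalRing hO
    haveI : IsAlgClosed (ResidueField O) := IsAlgClosed.of_exists_root _ fun p hp hirr => by
      obtain ⟨P, hP, hdeg, hmon⟩ := Polynomial.lifts_and_natDegree_eq_and_monic
        (Polynomial.map_surjective (residue O) IsLocalRing.residue_surjective p |> fun ⟨P, hP⟩ =>
          (⟨P, hP⟩ : p ∈ Polynomial.lifts (residue O))) hp
      obtain ⟨x, hx⟩ := hO P hmon (hdeg ▸ hirr.natDegree_pos)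
      exact ⟨residue O x, by rw [← hP, Polynomial.eval_map, Polynomial.eval₂_at_apply, hx.eq_zero, map_zero]⟩
    haveI : IsLocalHom (algebraMap O O) := ⟨fun _ h => h⟩
    haveI : Hensel.IsStrictHenselization ((Spec (CommRingCat.of N)).presheaf.stalk n) O :=
      Groth.L05.HensTensor.isStrictHenselization_self O
    let r := sR n
    obtain ⟨R', _, _, _, _, hR'⟩ := L05.Henselization.exists_isStrictHenselization
      ((Spec (CommRingCat.of R)).presheaf.stalk r)
    haveI := hR'
    obtain ⟨_, _⟩ := StalkBC.henselian_strict r R'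
    obtain ⟨φ, _, hφ⟩ := StalkBC.exists_strictMap sR n R' O
    have hφi := isIntegral_strictMap sR n R' O φ hφ
    letI : Algebra R' O := φ.toAlgebra
    haveI : Algebra.IsIntegral R' O := algebraMap_isIntegral_iff.mp hφi
    let ηr := Hens2.specOf (Spec (CommRingCat.of R)) r R'
    let ηn := Hens2.specOf (Spec (CommRingCat.of N)) n O
    have hφη : Spec.map (CommRingCat.ofHom φ) ≫ ηr = ηn ≫ sR := StalkBC.specOf_comp sR n R' O φ hφ
    obtain ⟨hloc', hf'⟩ := strictBase g hloc hf r R'
    let g' := pullback.snd g ηr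
    haveI : QuasiCompact g' := MorphismProperty.pullback_snd (P := @QuasiCompact) _ _ inferInstance
    haveI : QuasiSeparated g' := MorphismProperty.pullback_snd (P := @QuasiSeparated) _ _ inferInstance
    let WO := pullback bW ηn
    let w : WO ⟶ pullback g ηr :=
      pullback.lift (pullback.fst bW ηn ≫ a) (pullback.snd bW ηn ≫ Spec.map (CommRingCat.ofHom φ))
        (by
          rw [Category.assoc, cW.w, ← Category.assoc, pullback.condition, Category.assoc]
          exact (congrArg (pullback.snd bW ηn ≫ ·) hφη.symm).trans (Category.assoc _ _ _).symm)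
    have cO : IsPullback w (pullback.snd bW ηn) g' (Spec.map (CommRingCat.ofHom (algebraMap R' O))) := by
      refine IsPullback.of_right (v₁₃ := g) (h₁₂ := pullback.fst g ηr) (h₂₂ := ηr) ?_ (pullback.lift_snd _ _ _)
        (IsPullback.of_hasPullback g ηr)
      exact isPullback_congr (pullback.lift_fst _ _ _).symm hφη.symm ((IsPullback.of_hasPullback bW ηn).paste_horiz cW)
    let f := pullback.fst bW ηn
    let k := pullback.snd bW ηn
    haveI := EtSite.preservesFiniteLimits_pull f
    haveI := EtSite.preservesFiniteLimits_pull k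
    haveI := EtSite.preservesFiniteLimits_pull ηn
    refine ⟨ResidueField O, inferInstance, inferInstance, Hens2.geomPt _ n O, ?_, ?_, ?_⟩
    · refine (Scheme.Hom.comp_apply _ _ _).trans (Eq.trans
        (congrArg (Hens2.specOf (Spec (CommRingCat.of N)) n O) ?_) (specOf_closedPoint n O))
      rw [Subsingleton.elim (default : Spec (CommRingCat.of (ResidueField O))) (closedPoint (ResidueField O))]
      exact IsLocalRing.comap_closedPoint (residue O)
    · exact stalk_acyclic_le bW n O _ m fun p hp => bijective_Hpull_congr k ((EtCore.pullConstIso ηn).app KA).symm p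
        (bijective_chart R' g' L hL m hloc' hf' O hO w k cO KA hA p hp)
    refine exists_stage_zero bW _ (m + 1) ω' n O ?_
    obtain ⟨Ω, _, _, _, hinj, z, _, _, hz⟩ := exists_genericPoint R' O
    let sΩ := Spec.map (CommRingCat.ofHom (algebraMap O Ω))
    let h := pullback.fst k sΩ
    haveI := EtSite.preservesFiniteLimits_pull h
    let κz := (Spec (CommRingCat.of R')).residueField z
    letI : Algebra ((Spec (CommRingCat.of R)).residueField (ηr z)) Ω :=
      ((algebraMap κz Ω).comp (ηr.residueFieldMap z).hom).toAlgebra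
    haveI : Algebra.IsAlgebraic ((Spec (CommRingCat.of R)).residueField (ηr z)) Ω := by
      haveI : Algebra.IsIntegral ((Spec (CommRingCat.of R)).residueField (ηr z)) Ω := algebraMap_isIntegral_iff.1
        (RingHom.IsIntegral.trans _ _ (algResidue_specOf r R' z) (algebraMap_isIntegral_iff.2 (inferInstance :
          Algebra.IsIntegral κz Ω)))
      infer_instance
    have he : EtAcyc.geomPt (Spec (CommRingCat.of R')) z Ω ≫ ηr =
        EtAcyc.geomPt (Spec (CommRingCat.of R)) (ηr z) Ω := by
      show (Spec.map _ ≫ (Spec (CommRingCat.of R')).fromSpecResidueField z) ≫ ηr = Spec.map _ ≫ _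
      rw [Category.assoc, ← Scheme.Hom.SpecMap_residueFieldMap_fromSpecResidueField, ← Spec.map_comp_assoc]
      rfl
    let c : pullback k sΩ ⟶ pullback g (EtAcyc.geomPt (Spec (CommRingCat.of R)) (ηr z) Ω) :=
      pullback.lift ((h ≫ w) ≫ pullback.fst g ηr) (pullback.snd k sΩ) (by
        refine ((Category.assoc _ _ _).trans (congrArg ((h ≫ w) ≫ ·) pullback.condition)).trans ?_
        refine (Category.assoc _ _ _).symm.trans ?_
        refine (congrArg (· ≫ ηr) ((Category.assoc _ _ _).trans ((congrArg (h ≫ ·) cO.w).trans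
          ((Category.assoc _ _ _).symm.trans ((congrArg (· ≫ _) pullback.condition).trans
            (Category.assoc _ _ _)))))).trans ?_
        refine (Category.assoc _ _ _).trans (congrArg (pullback.snd k sΩ ≫ ·) ?_)
        exact (congrArg (· ≫ ηr) hz.symm).trans he)
    have hfw : (h ≫ f) ≫ a = c ≫ pullback.fst g _ := by
      rw [pullback.lift_fst, Category.assoc, Category.assoc]
      exact congrArg (h ≫ ·) (pullback.lift_fst _ _ _).symm
    let ψ : (EtCoh.pull f).obj ((EtCoh.pull bW).obj M) ≅ ConstSect.K KA WO :=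
      (EtCoh.pull f).mapIso ε ≪≫ (EtCore.pullConstIso f).app KA
    let x := EtCore.Hpull f _ (m + 1) ω'
    suffices hx : (EtCoh.HF WO (m + 1)).map ψ.hom x = 0 by
      exact (ConcreteCategory.bijective_of_isIso ((EtCoh.HF WO (m + 1)).map ψ.hom)).1 (hx.trans (map_zero _).symm)
    apply injective_Hpull_generic g' L hL m hloc' O hO w k cO Ω hinj z hz h (pullback.snd k sΩ)
      (IsPullback.of_hasPullback k sΩ) KA hA
    refine Eq.trans ?_ (map_zero _).symm
    rw [Hpull_map]
    haveI := EtSite.preservesFiniteLimits_pull (h ≫ f)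
    have h1 : EtCore.Hpull (h ≫ f) _ (m + 1) ω' = 0 := by
      show EtCore.Hpull (h ≫ f) _ (m + 1) ((EtCoh.HF W (m + 1)).map ε.inv ω) = 0
      rw [Hpull_map]
      exact (congrArg _ (hω Ω (ηr z) (h ≫ f) c hfw)).trans (map_zero _)
    exact (congrArg _ ((Hpull_comp_eq_zero_iff h f rfl _ (m + 1) ω').2 h1)).trans (map_zero _)
  obtain ⟨hu, hR⟩ := unit_of_points bW M m fun n => by
    obtain ⟨K, _, _, ξ, hξ, ⟨h1, h2⟩, -⟩ := key n
    exact ⟨K, inferInstance, inferInstance, ξ, hξ, h1, h2⟩
  haveI := hu
  obtain ⟨c, hc⟩ := mem_range_HofPush bW m ((EtCoh.pull bW).obj M) hR ω' fun n => by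
    obtain ⟨K, _, _, ξ, -, -, hV⟩ := key n
    exact hV
  obtain ⟨d, rfl⟩ := (ConcreteCategory.bijective_of_isIso
    ((EtCoh.HF (Spec (CommRingCat.of N)) (m + 1)).map ((EtCoh.pullPushAdj bW).unit.app M))).2 c
  refine ⟨d, Eq.trans ?_ hc⟩
  rw [EtSite.HofPush_def, Hpull_map, ← HF_map_comp]
  erw [Adjunction.left_triangle_components, CategoryTheory.Functor.map_id]
  rfl

end Groth.L27.MemRange
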