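import Groth.Agent.L27.XV.Embed

/-! # Detection of a sheaf by one geometric point over each point -/

universe u

open CategoryTheory CategoryTheory.Limits AlgebraicGeometry Opposite IsLocalRing Abelian

set_option autoImplicit false
set_option backward.isDefEq.respectTransparency.types false
set_option linter.style.haveILetI false
set_option linter.unusedSectionVars false

noncomputable section

namespace Groth.L27.MemRange

open Groth.L27.LimCoh Groth.L27.AffineEfface Groth.L27.XV

attribute [local instance] Groth.L27.AffineEfface.isSepClosed_residueField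

/-- The standard geometric point over a point. -/
abbrev stdPt {X : Scheme.{u}} (x : X) : Spec (CommRingCat.of (IsLocalRing.ResidueField (Kbar x))) ⟶ X :=
  EtSite.closedPt (Kbar x) ≫ geom x

/-- A map to a pushforward from a product of points detecting a set of points. -/
theorem exists_detect_pt {R : Type u} [CommRing R] (F : EtCoh.Ab (Spec (CommRingCat.of R)))
    (S : Set (Spec (CommRingCat.of R))) (M : Type) [AddCommGroup M] [Finite M]
    (hS : ∀ x ∈ S, Nonempty ((EtCoh.stalk (EtSite.closedPt (Kbar x) ≫ geom x)).obj F ≅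
      AddCommGrpCat.of (ULift.{u + 1} M))) :
    ∃ (K : S → Type u) (_ : ∀ s, Field (K s)) (_ : ∀ s, IsAlgClosed (K s)) (_ : ∀ s, Algebra R (K s))
      (φ : F ⟶ (EtCoh.push (Spec.map (CommRingCat.ofHom (algebraMap R (PR R K))))).obj (EtCoh.const _ M)),
      ∀ x ∈ S, ∃ (Ω : Type u) (_ : Field Ω) (_ : IsSepClosed Ω) (ξ : Spec (CommRingCat.of Ω) ⟶ Spec (CommRingCat.of R)),
        ξ.base default = x ∧ Function.Injective ((EtCoh.stalk ξ).map φ) := by
  let K : S → Type u := fun s => Kbar (s : Spec (CommRingCat.of R))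
  let h : ∀ s : S, CommRingCat.of R ⟶ CommRingCat.of (K s) :=
    fun s => Spec.preimage (geom (s : Spec (CommRingCat.of R)))
  letI iAlg : ∀ s : S, Algebra R (K s) := fun s => (h s).hom.toAlgebra
  obtain ⟨T, hT₁, hT₂, hT₃, j, hj, hN⟩ := exists_closedImmersion R K
  haveI := hj
  let Q := PR R K
  let Y := Spec (CommRingCat.of Q)
  let ν : Y ⟶ Spec (CommRingCat.of R) := Spec.map (CommRingCat.ofHom (algebraMap R Q))
  haveI : IsIntegralHom ν := IsIntegralHom.SpecMap_iff.2 (algebraMap_isIntegral_iff.2 inferInstance)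
  let p : ∀ s : S, Spec (CommRingCat.of (K s)) ⟶ Y := fun s => Spec.map (CommRingCat.ofHom (coord R K s))
  have hpν : ∀ s : S, p s ≫ ν = geom (s : Spec (CommRingCat.of R)) := fun s => by
    have hc : CommRingCat.ofHom (algebraMap R Q) ≫ CommRingCat.ofHom (coord R K s) = h s := rfl
    show Spec.map _ ≫ Spec.map _ = _
    rw [← Spec.map_comp, hc, Spec.map_preimage]
  have hp : ∀ (s : S) (r : Q), (p s) default ∈ PrimeSpectrum.basicOpen r ↔ coord R K s r ≠ 0 := by
    intro s r
    let d : PrimeSpectrum (K s) := (default : Spec (CommRingCat.of (K s)))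
    have h0 : d.asIdeal = ⊥ := (Ideal.eq_bot_or_top _).resolve_right d.isPrime.ne_top
    show r ∉ d.asIdeal.comap (coord R K s) ↔ _
    rw [Ideal.mem_comap, h0, Ideal.mem_bot]
  have hE : ∀ P : Set S, ∃ C : Y.Opens, IsClosed (C : Set Y) ∧ ∀ s, (p s) default ∈ C ↔ s ∈ P := by
    intro P
    obtain ⟨e, he, hQ⟩ := exists_idempotent R K P
    refine ⟨PrimeSpectrum.basicOpen e, ?_, fun s => (hp s e).trans ?_⟩
    · exact (PrimeSpectrum.isClopen_iff.2 ⟨e, he, rfl⟩).1
    · by_cases hs : s ∈ P <;> simp [hs, (hQ s).1, (hQ s).2]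
  have hD : ∀ O : Y.Opens, (O : Set Y).Nonempty → ∃ s, (p s) default ∈ O := by
    rintro O ⟨y, hy⟩
    obtain ⟨_, ⟨r, rfl⟩, hyr, hrO⟩ :=
      PrimeSpectrum.isTopologicalBasis_basic_opens.exists_subset_of_mem_open hy O.2
    by_contra hne
    push Not at hne
    have hr : r = 0 := eq_zero_of_coord R K r fun s => by_contra fun h => hne s (hrO ((hp s r).2 h))
    rw [hr] at hyr
    simp at hyr
  let A : AddCommGrpCat.{u + 1} := AddCommGrpCat.of (ULift.{u + 1} M)
  haveI : ∀ s : S, IsSepClosed (IsLocalRing.ResidueField (K s)) := fun s => isSepClosed_residueField _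
  let ζ : ∀ s : S, Spec (CommRingCat.of (IsLocalRing.ResidueField (K s))) ⟶ Y :=
    fun s => EtSite.closedPt (K s) ≫ p s
  have hζ : ∀ s : S, (ζ s ≫ ν) default = (s : Spec (CommRingCat.of R)) := fun s => by
    rw [Category.assoc, hpν, Scheme.Hom.comp_apply]
    exact (congrArg (geom (s : Spec (CommRingCat.of R)))
      (Subsingleton.elim (α := PrimeSpectrum (K s)) _ _)).trans (geom_default _)
  have hiso : ∀ s : S, Nonempty ((EtCoh.pull (p s)).obj ((EtCoh.pull ν).obj F) ≅
      ConstSect.K A (Spec (CommRingCat.of (K s)))) := fun s => by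
    obtain ⟨e₀⟩ := hS s s.2
    have hq : ζ s ≫ ν = EtSite.closedPt (K s) ≫ geom (s : Spec (CommRingCat.of R)) := by
      rw [← hpν s]; exact Category.assoc _ _ _
    have e : (EtCoh.stalk (ζ s ≫ ν)).obj F ≅ A :=
      (eqToIso (by rw [hq])) ≪≫ e₀
    exact exists_iso_const (K s) _ A ((EtSite.stalkPullIso (p s) (EtSite.closedPt (K s))).app _ ≪≫
      (EtSite.stalkPullIso ν (ζ s)).app F ≪≫ e)
  let u₀ : (EtCoh.pull ν).obj F ⟶ skyProd p A :=
    Pi.lift fun s => (EtCoh.pullPushAdj (p s)).homEquiv _ _ (hiso s).some.hom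
  haveI : Finite A := inferInstanceAs (Finite (ULift.{u + 1} M))
  haveI := isIso_θ p A hN j hE hD
  let ψ : (EtCoh.pull ν).obj F ⟶ ConstSect.K A Y := u₀ ≫ inv (θ p A)
  have hψ : ∀ s, ψ ≫ ConstSect.cmp A (p s) = (EtCoh.pullPushAdj (p s)).homEquiv _ _ (hiso s).some.hom := fun s => by
    rw [show ConstSect.cmp A (p s) = θ p A ≫ Pi.π _ s from
      (limit.lift_π (Fan.mk _ fun s => ConstSect.cmp A (p s)) ⟨s⟩).symm]
    show (u₀ ≫ inv (θ p A)) ≫ θ p A ≫ _ = _
    rw [Category.assoc, IsIso.inv_hom_id_assoc]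
    exact limit.lift_π _ _
  let φ : F ⟶ (EtCoh.push ν).obj (EtCoh.const Y M) := (EtCoh.pullPushAdj ν).homEquiv _ _ ψ
  refine ⟨K, inferInstance, inferInstance, iAlg, φ, fun x hx => ?_⟩
  let s : S := ⟨x, hx⟩
  refine ⟨_, inferInstance, inferInstance, ζ s ≫ ν, hζ s, ?_⟩
  have hc : ConstSect.cmp A (p s) = (EtCoh.pullPushAdj (p s)).homEquiv _ _ ((EtCore.pullConstIso (p s)).hom.app A) :=
    (Adjunction.homEquiv_unit _ _ _ _).symm
  have h1 := hψ s
  rw [hc, ← Adjunction.homEquiv_naturality_left] at h1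
  have h2 := ((EtCoh.pullPushAdj (p s)).homEquiv _ _).injective h1
  haveI : IsIso ((EtCoh.pull (p s)).map ψ ≫ (EtCore.pullConstIso (p s)).hom.app A) := by rw [h2]; infer_instance
  haveI : IsIso ((EtCoh.pull (p s)).map ψ) := IsIso.of_isIso_comp_right _ ((EtCore.pullConstIso (p s)).hom.app A)
  have hψinj : Function.Injective ((EtCoh.stalk (ζ s)).map ψ) := by
    haveI : IsIso ((EtCoh.stalk (ζ s)).map ψ) :=
      (NatIso.isIso_map_iff (EtSite.stalkPullIso (p s) (EtSite.closedPt (K s))) ψ).1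
        (inferInstanceAs (IsIso ((EtCoh.stalk (EtSite.closedPt (K s))).map ((EtCoh.pull (p s)).map ψ))))
    exact (ConcreteCategory.bijective_of_isIso _).1
  have hψφ : (EtCoh.pull ν).map φ ≫ (EtCoh.pullPushAdj ν).counit.app _ = ψ := by
    exact ((EtCoh.pullPushAdj ν).homEquiv_counit _ _ φ).symm.trans (Equiv.symm_apply_apply _ _)
  have hφ : Function.Injective ((EtCoh.stalk (ζ s)).map ((EtCoh.pull ν).map φ)) := fun a b hab => hψinj (by
    rw [← hψφ, Functor.map_comp, ConcreteCategory.comp_apply, ConcreteCategory.comp_apply, hab])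
  intro a b hab
  obtain ⟨a', rfl⟩ := (ConcreteCategory.bijective_of_isIso ((EtSite.stalkPullIso ν (ζ s)).hom.app F)).2 a
  obtain ⟨b', rfl⟩ := (ConcreteCategory.bijective_of_isIso ((EtSite.stalkPullIso ν (ζ s)).hom.app F)).2 b
  refine congrArg ((EtSite.stalkPullIso ν (ζ s)).hom.app F) (hφ ?_)
  refine (ConcreteCategory.bijective_of_isIso ((EtSite.stalkPullIso ν (ζ s)).hom.app _)).1 ?_
  have hn := (EtSite.stalkPullIso ν (ζ s)).hom.naturality φ
  exact (ConcreteCategory.congr_hom hn a').trans (hab.trans (ConcreteCategory.congr_hom hn b').symm)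

end Groth.L27.MemRange
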