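import Groth.Agent.L27.MemRange.Local
import Groth.Agent.L27.MemRange.Detect
import Groth.Agent.L28.EtTor.Basic

/-! # Coefficient injectivity on an acyclic scheme over a separably closed field -/

universe u

open CategoryTheory CategoryTheory.Limits AlgebraicGeometry Opposite IsLocalRing Abelian

set_option autoImplicit false
set_option backward.isDefEq.respectTransparency.types false
set_option linter.style.haveILetI false
set_option linter.unusedSectionVars false

noncomputable section

namespace Groth.L27.MemRange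

open Groth.L27.LimCoh Groth.L27.LimBC Groth.L27.FinBC Groth.L27.XV

/-- On an acyclic scheme over a separably closed field, monomorphisms of coefficients are injective one degree beyond. -/
theorem eq_zero_on_fibre {Ω : Type u} [Field Ω] [IsSepClosed Ω] {U : Scheme.{u}} [CompactSpace U]
    [QuasiSeparatedSpace U] (k : U ⟶ Spec (CommRingCat.of Ω)) [PreservesFiniteLimits (EtCoh.pull k)] (L : Set ℕ)
    (m : ℕ) (hU : EtAcyc.IsAcyclicSchemeN L m U) {E : ShortComplex (EtCoh.Ab (Spec (CommRingCat.of Ω)))}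
    (hE : E.ShortExact) (hQ : EtAcyc.IsLTorsion L E.X₃) (a : EtCoh.H U ((EtCoh.pull k).obj E.X₁) (m + 1))
    (ha : (EtCoh.HF U (m + 1)).map ((EtCoh.pull k).map E.f) a = 0) : a = 0 := by
  haveI : IsSepClosed (ResidueField Ω) := AffineEfface.isSepClosed_residueField Ω
  obtain ⟨q, rfl⟩ := exists_δH (hE.map_of_exact (EtCoh.pull k)) m a ha
  obtain ⟨hne, hconn, hvan⟩ := hU
  haveI := hconn
  haveI : ConnectedSpace ↥(Spec (CommRingCat.of Ω)) := FinBC.connectedSpace_local Ω
  let A := (EtCoh.stalk (EtSite.closedPt Ω)).obj E.X₃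
  obtain ⟨e⟩ := AffineEfface.exists_iso_const Ω E.X₃ A (Iso.refl _)
  have hA : ∀ t : A, ∃ j, EtAcyc.PrimesIn L j ∧ j • t = 0 :=
    fun t => L28.EtTor.isLTorsion_iff_stalks.1 hQ _ (EtSite.closedPt Ω) t
  have hs : Function.Surjective (EtCore.Hpull k E.X₃ m) := by
    rcases Nat.eq_zero_or_pos m with rfl | hm
    · exact (bijective_Hpull_congr k e.symm 0 (bijective_Hpull_zero_K k A)).2
    · haveI : Subsingleton (EtCoh.H U (ConstSect.K A U) m) :=
        subsingleton_H_K (fun ℓ hℓ hℓL => hvan ℓ hℓ hℓL m hm le_rfl) A hA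
      haveI : Subsingleton (EtCoh.H U ((EtCoh.pull k).obj E.X₃) m) :=
        @Equiv.subsingleton _ _ ((EtCoh.HF U m).mapIso ((EtCoh.pull k).mapIso e ≪≫
          (EtCore.pullConstIso k).app A)).addCommGroupIsoToAddEquiv.toEquiv this
      exact fun b => ⟨0, Subsingleton.elim _ _⟩
  obtain ⟨z, rfl⟩ := hs q
  refine (LimCoh.Hpull_δH k hE m z).symm.trans ?_
  haveI := EtSite.subsingleton_H Ω E.X₁ (m + 1) (Nat.succ_pos m)
  exact (congrArg _ (Subsingleton.elim (α := EtCoh.H (Spec (CommRingCat.of Ω)) E.X₁ (m + 1)) _ 0)).trans (map_zero _)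

end Groth.L27.MemRange
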