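import Groth.Agent.L27.CompTransfer.Edge
import Groth.Agent.L27.LimCoh.StageSys
import Groth.Agent.L27.LimCoh.HComp
import Groth.Agent.L27.StalkRpush.Final
import Groth.Agent.L27.XV.Point
import Groth.Agent.L27.LimBC.LAFibre
import Groth.Agent.L10.EtLocalBC.Zero
import Groth.Agent.S14389

/-! # Classes vanishing locally on the base come from the base -/

universe u

open CategoryTheory CategoryTheory.Limits AlgebraicGeometry Opposite IsLocalRing Abelian

set_option autoImplicit false
set_option backward.isDefEq.respectTransparency.types false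
set_option linter.style.haveILetI false
set_option linter.unusedSectionVars false

noncomputable section

namespace Groth.L27.MemRange

open Groth.L27.LimCoh

theorem gamma_injective {X Y Z : Scheme.{u}} (f : Z ⟶ Y) (g : Y ⟶ X) {k : Z ⟶ X} (w : f ≫ g = k)
    (F : EtCoh.Ab X) (n : ℕ) (x : EtCoh.H Z ((EtCoh.pull k).obj F) n)
    (h : (EtCoh.HF Z n).map (gamma f g w F) x = 0) : x = 0 := by
  have h' := congrArg ((EtCoh.HF Z n).map (((EtCore.pullComp f g).symm ≪≫ EtCore.pullCongr w).app F).hom) h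
  rw [← HF_map_comp, gamma_inv F f g w, HF_map_eq, Sheaf.H.map_id_apply, map_zero] at h'
  exact h'

theorem Hpull_comp_eq_zero_iff {X Y Z : Scheme.{u}} (f : Z ⟶ Y) (g : Y ⟶ X) {k : Z ⟶ X} (w : f ≫ g = k)
    [PreservesFiniteLimits (EtCoh.pull f)] [PreservesFiniteLimits (EtCoh.pull g)]
    [PreservesFiniteLimits (EtCoh.pull k)] (F : EtCoh.Ab X) (n : ℕ) (e : EtCoh.H X F n) :
    EtCore.Hpull f _ n (EtCore.Hpull g F n e) = 0 ↔ EtCore.Hpull k F n e = 0 := by
  rw [Hpull_comp f g w n F e]
  exact ⟨gamma_injective f g w F n _, fun h => (congrArg _ h).trans (map_zero _)⟩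

/-- If a class dies on one side of a commutative square, it dies on the other. -/
theorem Hpull_eq_zero_of_factor {A B C X : Scheme.{u}} (a : A ⟶ B) (b : B ⟶ X) (c : A ⟶ C) (d : C ⟶ X)
    (w : a ≫ b = c ≫ d) [PreservesFiniteLimits (EtCoh.pull a)] [PreservesFiniteLimits (EtCoh.pull b)]
    [PreservesFiniteLimits (EtCoh.pull d)] (F : EtCoh.Ab X) (n : ℕ) (e : EtCoh.H X F n)
    (h : EtCore.Hpull d F n e = 0) : EtCore.Hpull a _ n (EtCore.Hpull b F n e) = 0 := by
  haveI := EtSite.preservesFiniteLimits_pull c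
  haveI := EtSite.preservesFiniteLimits_pull (c ≫ d)
  refine (Hpull_comp_eq_zero_iff a b w F n e).2 ((Hpull_comp_eq_zero_iff c d rfl F n e).1 ?_)
  exact (congrArg _ h).trans (map_zero _)

theorem baseChange0_nat {X Y X' Y' : Scheme.{u}} {f : X ⟶ Y} {g : Y' ⟶ Y} {f' : X' ⟶ Y'} {g' : X' ⟶ X}
    (w : g' ≫ f = f' ≫ g) {F G : EtCoh.Ab X} (φ : F ⟶ G) :
    EtCoh.baseChange0 f g f' g' w F ≫ (EtCoh.push f').map ((EtCoh.pull g').map φ) =
      (EtCoh.pull g).map ((EtCoh.push f).map φ) ≫ EtCoh.baseChange0 f g f' g' w G := by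
  unfold EtCoh.baseChange0
  rw [← Adjunction.homEquiv_naturality_left_symm, ← Adjunction.homEquiv_naturality_right_symm]
  refine congrArg _ ?_
  have h1 : φ ≫ (EtCoh.pullPushAdj g').unit.app G =
      (EtCoh.pullPushAdj g').unit.app F ≫ (EtCoh.push g').map ((EtCoh.pull g').map φ) :=
    (EtCoh.pullPushAdj g').unit.naturality φ
  simp only [Category.assoc]
  rw [← Functor.map_comp_assoc, h1, Functor.map_comp_assoc]
  refine congrArg (_ ≫ ·) ?_
  have n1 := (EtCoh.pushComp f g').hom.naturality ((EtCoh.pull g').map φ)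
  have n2 := (EtCoh.pushCongr w).hom.naturality ((EtCoh.pull g').map φ)
  have n3 := (EtCoh.pushComp g f').inv.naturality ((EtCoh.pull g').map φ)
  exact ((congrArg (_ ≫ ·) ((congrArg (_ ≫ ·) n3.symm).trans ((Category.assoc _ _ _).symm.trans
    ((congrArg (· ≫ _) n2.symm).trans (Category.assoc _ _ _))))).trans ((Category.assoc _ _ _).symm.trans
    ((congrArg (· ≫ _) n1.symm).trans (Category.assoc _ _ _))))

/-- A global section which dies on a covering is zero. -/
theorem eq_zero_of_cover {Y : Scheme.{u}} (C : EtCoh.Ab Y) (c : EtCoh.H Y C 0)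
    (h : ∀ y : Y, ∃ (V : Scheme.{u}) (v : V ⟶ Y) (_ : y ∈ Set.range v),
      ∀ [PreservesFiniteLimits (EtCoh.pull v)], EtCore.Hpull v C 0 c = 0) : c = 0 := by
  obtain ⟨a, rfl⟩ := (Ext.mk₀_bijective _ _).2 c
  suffices ha : a = 0 by subst ha; exact Ext.mk₀_zero _ _
  refine XV.eq_zero_of_stalks a fun y => ?_
  obtain ⟨V, v, ⟨x, rfl⟩, hv⟩ := h y
  obtain ⟨K, _, _, ξ, rfl⟩ := EtSite.exists_geometric_point x
  haveI := EtSite.preservesFiniteLimits_pull v
  have h0 : (EtCoh.pull v).map a = 0 := by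
    have := hv
    rw [EtSite.Hpull_def, Ext.mapExactFunctor_mk₀, Ext.mk₀_comp_mk₀] at this
    have h1 := (Ext.mk₀_bijective _ _).1 (this.trans (Ext.mk₀_zero _ _).symm)
    rw [← cancel_epi (EtCore.pullConst v ℤ).inv, h1, comp_zero]
  refine ⟨K, inferInstance, inferInstance, ξ ≫ v, Scheme.Hom.comp_apply _ _ _, ?_⟩
  have hn := (EtSite.stalkPullIso v ξ).hom.naturality a
  have e : (EtCoh.pull v ⋙ EtCoh.stalk ξ).map a = 0 := by
    show (EtCoh.stalk ξ).map ((EtCoh.pull v).map a) = 0
    rw [h0, Functor.map_zero]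
  rw [e, zero_comp] at hn
  exact (cancel_epi ((EtSite.stalkPullIso v ξ).hom.app _)).1 (hn.symm.trans comp_zero.symm)

section Stage

open Groth.L27.StalkRpush Groth.L05.Henselization

variable {X Y : Scheme.{u}} (g : X ⟶ Y) [QuasiCompact g] [QuasiSeparated g]

/-- A class which dies on a strict localization of the base dies on an etale neighbourhood. -/
theorem exists_stage_zero (G : EtCoh.Ab X) (n : ℕ) (x : EtCoh.H X G n) (y : Y) (R : Type u) [CommRing R]
    [IsLocalRing R] [Algebra (Y.presheaf.stalk y) R] [IsLocalHom (algebraMap (Y.presheaf.stalk y) R)]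
    [Hensel.IsStrictHenselization (Y.presheaf.stalk y) R] [IsSepClosed (ResidueField R)]
    [PreservesFiniteLimits (EtCoh.pull (pullback.fst g (Hens2.specOf Y y R)))]
    (h : EtCore.Hpull (pullback.fst g (Hens2.specOf Y y R)) G n x = 0) :
    ∃ V : Y.Etale, (∃ z : V.left, V.hom z = y) ∧ ∀ [PreservesFiniteLimits (EtCoh.pull (pullback.snd V.hom g))],
      EtCore.Hpull (pullback.snd V.hom g) G n x = 0 := by
  obtain ⟨W, hW, hyW⟩ : ∃ W : Y.Opens, IsAffineOpen W ∧ y ∈ W := by
    obtain ⟨_, ⟨W, hW, rfl⟩, hyW, -⟩ :=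
      Y.isBasis_affineOpens.exists_subset_of_mem_open (Set.mem_univ y) isOpen_univ
    exact ⟨W, hW, hyW⟩
  letI : Algebra Γ(Y, W) (Y.presheaf.stalk y) := (Y.presheaf.germ W y hyW).hom.toAlgebra
  haveI : IsLocalization.AtPrime (Y.presheaf.stalk y) (hW.primeIdealOf ⟨y, hyW⟩).asIdeal :=
    hW.isLocalization_stalk ⟨y, hyW⟩
  letI : Algebra Γ(Y, W) R := ((algebraMap (Y.presheaf.stalk y) R).comp (Y.presheaf.germ W y hyW).hom).toAlgebra
  haveI : IsScalarTower Γ(Y, W) (Y.presheaf.stalk y) R := IsScalarTower.of_algebraMap_eq' rfl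
  obtain ⟨e, -⟩ := exists_algEquiv Γ(Y, W) (hW.primeIdealOf ⟨y, hyW⟩).asIdeal (Y.presheaf.stalk y) R
  have hη : Hens2.specOf Y y R = toBase Γ(Y, W) R ≫ hW.fromSpec := by
    show Spec.map (CommRingCat.ofHom (algebraMap (Y.presheaf.stalk y) R)) ≫ Y.fromSpecStalk y = _
    rw [← hW.fromSpecStalk_eq_fromSpecStalk hyW]
    show Spec.map (CommRingCat.ofHom (algebraMap (Y.presheaf.stalk y) R)) ≫
      Spec.map (Y.presheaf.germ W y hyW) ≫ hW.fromSpec = _
    rw [← Spec.map_comp_assoc]
    rfl
  let B : Type u := Γ(Y, W)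
  let j : Spec (CommRingCat.of B) ⟶ Y := hW.fromSpec
  haveI : IsOpenImmersion j := inferInstanceAs (IsOpenImmersion hW.fromSpec)
  let K := ResidueField R
  have hP : bPt B j K = Hens2.geomPt Y y R := by
    show _ = Spec.map (CommRingCat.ofHom (IsLocalRing.residue R)) ≫ Hens2.specOf Y y R
    rw [hη, ← Category.assoc, ← Spec.map_comp, ← CommRingCat.ofHom_comp]
    rfl
  have hp : bPt B j K default = y := by
    rw [hP]
    refine (Scheme.Hom.comp_apply _ _ _).trans (Eq.trans
      (congrArg (Hens2.specOf Y y R) ?_) (LimBC.specOf_closedPoint y R))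
    rw [Subsingleton.elim (default : Spec (CommRingCat.of (ResidueField R))) (closedPoint (ResidueField R))]
    exact IsLocalRing.comap_closedPoint (residue R)
  haveI : ∀ i, PreservesFiniteLimits (EtCoh.pull (LimCoh.prj (cone g B j K R e) i)) := fun i =>
    EtSite.preservesFiniteLimits_pull _
  haveI : ∀ {i k : Idx B K} (q : k ⟶ i), PreservesFiniteLimits (EtCoh.pull ((D g B j K).map q)) := fun q =>
    EtSite.preservesFiniteLimits_pull _
  haveI : ∀ i, PreservesFiniteLimits (EtCoh.pull (tt g B j K i)) := fun i => EtSite.preservesFiniteLimits_pull _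
  haveI := EtSite.preservesFiniteLimits_pull (pullback.fst g (toBase B R ≫ j))
  have h' : EtCore.Hpull (pullback.fst g (toBase B R ≫ j)) G n x = 0 := by
    have key : ∀ (η : Spec (CommRingCat.of R) ⟶ Y), η = Hens2.specOf Y y R →
        ∀ [PreservesFiniteLimits (EtCoh.pull (pullback.fst g η))], EtCore.Hpull (pullback.fst g η) G n x = 0 := by
      intro η hη' _; subst hη'; exact h
    exact key _ hη.symm
  let i : Idx B K := (IsCofiltered.nonempty (C := Idx B K)).some
  let a := EtCore.Hpull (tt g B j K i) G n x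
  obtain ⟨k, q, hk⟩ := (StalkRpush.commutes g B j K R e G n).2 i a (by
    rw [HpullThen_apply]
    let k' : (cone g B j K R e).pt ⟶ X := pullback.fst g (toBase B R ≫ j)
    haveI : PreservesFiniteLimits (EtCoh.pull k') := EtSite.preservesFiniteLimits_pull k'
    have := (Hpull_comp_eq_zero_iff (k := k') (LimCoh.prj (cone g B j K R e) i) (tt g B j K i) (rr_hom g B j K R e i) G n x).2 h'
    exact (congrArg _ this).trans (map_zero _))
  have hφ : (psys g B j K G).φ q = (((EtCore.pullComp ((D g B j K).map q) (tt g B j K i)).symm ≪≫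
      EtCore.pullCongr (D_w g B j K q)).app G).hom := Equiv.symm_apply_apply _ _
  rw [hφ] at hk
  have hk0 := (Hpull_comp_eq_zero_iff ((D g B j K).map q) (tt g B j K i) (D_w g B j K q) G n x).1
    (Hpull_eq_zero_of_HpullThen ((D g B j K).map q) _ _ n a hk)
  refine ⟨(nb B j K).obj k, ⟨(pt B j K k).left (default : Spec (CommRingCat.of K)), ?_⟩, fun {_} => hk0⟩
  exact ((Scheme.Hom.comp_apply _ _ _).symm.trans
    (congrArg (fun t : Spec (CommRingCat.of K) ⟶ Y => t default) (Over.w (pt B j K k)))).trans hp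

end Stage

section Edge

open Groth.L27.CompTransfer

/-- Classes vanishing locally on the base come from the direct image when intermediate ones vanish. -/
theorem mem_range_HofPush {X Y : Scheme.{u}} (g : X ⟶ Y) [PreservesFiniteLimits (EtCoh.pull g)] :
    ∀ (m : ℕ) (G : EtCoh.Ab X), (∀ q : ℕ, 1 ≤ q → q ≤ m → IsZero ((EtCoh.Rpush g q).obj G)) →
      ∀ x : EtCoh.H X G (m + 1), (∀ y : Y, ∃ V : Y.Etale, (∃ z : V.left, V.hom z = y) ∧
        ∀ [PreservesFiniteLimits (EtCoh.pull (pullback.snd V.hom g))],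
          EtCore.Hpull (pullback.snd V.hom g) G (m + 1) x = 0) →
        x ∈ Set.range (EtLim.HofPush g G (m + 1)) := by
  intro m G hG x hx
  let E := ShortComplex.mk (Injective.ι G) (cokernel.π _) (cokernel.condition _)
  have hE : E.ShortExact := { exact := ShortComplex.exact_of_g_is_cokernel _ (cokernelIsCokernel _) }
  haveI : Injective E.X₂ := inferInstanceAs (Injective (Injective.under G))
  obtain ⟨s, rfl⟩ := exists_δH hE m x (eq_zero_of_injective _ _ _)
  haveI := mono_iota g hE
  obtain ⟨hb, -⟩ := edge g m G hG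
  suffices hs : ∃ c, theta g (E := E) m c = s by
    obtain ⟨c, rfl⟩ := hs
    exact ⟨δH (pushSC_shortExact g hE) m c, HofPush_δ g hE m c⟩
  cases m with
  | zero =>
    let C := cokernel (iota g (E := E))
    obtain ⟨s₀, hs₀⟩ := (bijective_HofPush_zero g E.X₃).2 s
    suffices hc : (EtCoh.HF Y 0).map (cokernel.π (iota g (E := E))) s₀ = 0 by
      haveI := mono_iota g hE
      let T := ShortComplex.mk (iota g (E := E)) (cokernel.π _) (cokernel.condition _)
      have hT : T.ShortExact := { exact := ShortComplex.exact_of_g_is_cokernel _ (cokernelIsCokernel _) }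
      obtain ⟨c, hc'⟩ := Ext.covariant_sequence_exact₂ _ hT s₀ ((EtSite.HF_map_apply _ _ _).symm.trans hc)
      exact ⟨c, (congrArg _ ((EtSite.HF_map_apply _ _ _).trans hc')).trans hs₀⟩
    refine eq_zero_of_cover C _ fun y => ?_
    obtain ⟨V, ⟨z, hz⟩, hV⟩ := hx y
    refine ⟨V.left, V.hom, ⟨z, hz⟩, fun {_} => ?_⟩
    let v : V.left ⟶ Y := V.hom
    haveI : AlgebraicGeometry.Etale v := V.prop
    let fV : pullback V.hom g ⟶ V.left := pullback.fst V.hom g
    let gV := pullback.snd V.hom g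
    haveI : AlgebraicGeometry.Etale gV := MorphismProperty.pullback_snd _ _ inferInstance
    haveI := EtSite.preservesFiniteLimits_pull fV
    haveI := EtSite.preservesFiniteLimits_pull gV
    have c₀ : IsPullback gV fV g v := (IsPullback.of_hasPullback V.hom g).flip
    have hEV := hE.map_of_exact (EtCoh.pull gV)
    obtain ⟨t, ht⟩ := exists_map_of_δH_eq_zero hEV 0 (EtCore.Hpull gV E.X₃ 0 s)
      ((Hpull_δH gV hE 0 s).symm.trans hV)
    haveI := L10.EtLocalBC.isIso_baseChange0_of_etale c₀ E.X₂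
    obtain ⟨t₁, rfl⟩ := (bijective_HofPush_zero fV ((EtCoh.pull gV).obj E.X₂)).2 t
    obtain ⟨t₂, rfl⟩ := (ConcreteCategory.bijective_of_isIso
      ((EtCoh.HF V.left 0).map (EtCoh.baseChange0 g v fV gV c₀.w E.X₂))).2 t₁
    haveI := L10.EtLocalBC.isIso_baseChange0_of_etale c₀ E.X₃
    have key : EtCore.Hpull v _ 0 s₀ =
        (EtCoh.HF V.left 0).map ((EtCoh.pull v).map ((EtCoh.push g).map E.g)) t₂ := by
      apply (ConcreteCategory.bijective_of_isIso
        ((EtCoh.HF V.left 0).map (EtCoh.baseChange0 g v fV gV c₀.w E.X₃))).1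
      apply (bijective_HofPush_zero fV ((EtCoh.pull gV).obj E.X₃)).1
      refine (Groth.Agent.S14389.result g v fV gV c₀.w E.X₃ 0 s₀).symm.trans ?_
      rw [hs₀]
      refine ht.symm.trans ?_
      refine (HofPush_map fV ((EtCoh.pull gV).map E.g) 0 _).symm.trans (congrArg _ ?_)
      rw [← HF_map_comp, ← HF_map_comp, baseChange0_nat c₀.w E.g]
    rw [Hpull_map, key, ← HF_map_comp, ← Functor.map_comp]
    have h0 : (EtCoh.push g).map E.g ≫ cokernel.π (iota g (E := E)) = 0 := by
      rw [show (EtCoh.push g).map E.g = (pushSC g (E := E)).g ≫ iota g (E := E) from (cokernel.π_desc _ _ _).symm,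
        Category.assoc, cokernel.condition, comp_zero]
    rw [h0, Functor.map_zero, Functor.map_zero]
    rfl
  | succ p =>
    letI := HasDerivedCategory.standard (EtCoh.Ab X)
    haveI : Epi ((EtCoh.push g).map E.g) := by
      have := Groth.L00.RDerLES.epi_map_g (EtCoh.push g) hE 0 (hG 1 le_rfl (by omega))
      rw [← NatIso.naturality_1 (EtCoh.push g).rightDerivedZeroIsoSelf E.g]
      infer_instance
    haveI : Epi (iota g (E := E)) := epi_of_epi_fac (cokernel.π_desc _ _ _)
    haveI : IsIso (iota g (E := E)) := isIso_of_mono_of_epi _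
    have hI : ∀ q : ℕ, 0 < q → IsZero ((EtCoh.Rpush g q).obj E.X₂) := fun q hq => by
      obtain ⟨q, rfl⟩ := Nat.exists_eq_succ_of_ne_zero hq.ne'
      exact (EtCoh.push g).isZero_rightDerived_obj_injective_succ q (Injective.under G)
    obtain ⟨s', hs'⟩ := mem_range_HofPush g p E.X₃ (fun q h1 h2 => by
      have := Groth.L00.RDerLES.epi_map_g (EtCoh.push g) hE q (hG (q + 1) (by omega) (by omega))
      exact IsZero.of_epi (((EtCoh.push g).rightDerived q).map E.g) (hI q h1)) s (fun y => by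
      obtain ⟨V, hy, hV⟩ := hx y
      refine ⟨V, hy, fun {_} => ?_⟩
      let gV := pullback.snd V.hom g
      haveI : AlgebraicGeometry.Etale V.hom := V.prop
      haveI : AlgebraicGeometry.Etale gV := MorphismProperty.pullback_snd _ _ inferInstance
      haveI : EtShriek.JCont gV := ExtZero.jCont _
      have hEV := hE.map_of_exact (EtCoh.pull gV)
      obtain ⟨t, ht⟩ := exists_map_of_δH_eq_zero hEV (p + 1) (EtCore.Hpull gV E.X₃ (p + 1) s)
        ((Hpull_δH gV hE (p + 1) s).symm.trans hV)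
      exact ht.symm.trans ((congrArg _ (@eq_zero_of_injective _ _ (ExtZero.injective_pull gV E.X₂) p t)).trans (map_zero _)))
    obtain ⟨c, hc⟩ := (ConcreteCategory.bijective_of_isIso ((EtCoh.HF Y (p + 1)).map (iota g (E := E)))).2 s'
    exact ⟨c, (congrArg _ hc).trans hs'⟩
termination_by m => m

/-- A class which dies on every strict localization of the base comes from the base. -/
theorem mem_range_Hpull_of_strict {X Y : Scheme.{u}} (g : X ⟶ Y) [QuasiCompact g] [QuasiSeparated g]
    [PreservesFiniteLimits (EtCoh.pull g)] (F : EtCoh.Ab Y) (m : ℕ)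
    [IsIso ((EtCoh.pullPushAdj g).unit.app F)]
    (hR : ∀ q : ℕ, 1 ≤ q → q ≤ m → IsZero ((EtCoh.Rpush g q).obj ((EtCoh.pull g).obj F)))
    (x : EtCoh.H X ((EtCoh.pull g).obj F) (m + 1))
    (hx : ∀ (y : Y) (R : Type u) [CommRing R] [HenselianLocalRing R] [IsSepClosed (ResidueField R)]
      [Algebra (Y.presheaf.stalk y) R] [IsLocalHom (algebraMap (Y.presheaf.stalk y) R)]
      [Hensel.IsStrictHenselization (Y.presheaf.stalk y) R]
      [PreservesFiniteLimits (EtCoh.pull (pullback.fst g (Hens2.specOf Y y R)))],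
      EtCore.Hpull (pullback.fst g (Hens2.specOf Y y R)) _ (m + 1) x = 0) :
    x ∈ Set.range (EtCore.Hpull g F (m + 1)) := by
  obtain ⟨c, hc⟩ := mem_range_HofPush g m ((EtCoh.pull g).obj F) hR x fun y => by
    obtain ⟨R, _, _, _, _, hR⟩ := L05.Henselization.exists_isStrictHenselization (Y.presheaf.stalk y)
    haveI := hR
    obtain ⟨_, _⟩ := StalkBC.henselian_strict y R
    haveI := EtSite.preservesFiniteLimits_pull (pullback.fst g (Hens2.specOf Y y R))
    exact exists_stage_zero g _ (m + 1) x y R (hx y R)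
  let η := (EtCoh.pullPushAdj g).unit.app F
  obtain ⟨d, rfl⟩ := (ConcreteCategory.bijective_of_isIso ((EtCoh.HF Y (m + 1)).map η)).2 c
  refine ⟨d, Eq.trans ?_ hc⟩
  rw [EtSite.HofPush_def, Hpull_map, ← HF_map_comp]
  erw [Adjunction.left_triangle_components, CategoryTheory.Functor.map_id]
  rfl

end Edge

end Groth.L27.MemRange
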