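import Groth.Agent.L27.MemRange.Strict
import Groth.Agent.L27.XV.Global

/-! # The image of the pullback is cut out by the geometric fibres -/

universe u

open CategoryTheory CategoryTheory.Limits AlgebraicGeometry Opposite IsLocalRing Abelian

set_option autoImplicit false
set_option backward.isDefEq.respectTransparency.types false
set_option linter.style.haveILetI false
set_option linter.unusedSectionVars false

noncomputable section

namespace Groth.L27.MemRange

open Groth.L27.LimCoh Groth.L27.LimBC Groth.L27.FinBC Groth.L27.XV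

/-- SGA 4 XV 1.15: classes in the image are the ones vanishing on the geometric fibres. -/
theorem mem_range_iff_fibres {X Y : Scheme.{u}} (g : X ⟶ Y) [QuasiCompact g] [QuasiSeparated g]
    (L : Set ℕ) (hL : ∃ ℓ ∈ L, ℓ.Prime) (n : ℕ) (hn : 1 ≤ n)
    (hglob : EtAcyc.IsAcyclicN g L (n - 1)) (hloc : EtAcyc.IsLocAcyclicN g L (n - 1))
    [PreservesFiniteLimits (EtCoh.pull g)] (F : EtCoh.Ab Y) (hF : EtAcyc.IsLTorsion L F)
    (ξ : EtCoh.H X ((EtCoh.pull g).obj F) n) :
    ξ ∈ Set.range (EtCore.Hpull g F n) ↔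
      ∀ (y : Y) (Ω : Type u) [Field Ω] [IsSepClosed Ω] [Algebra (Y.residueField y) Ω]
        [Algebra.IsAlgebraic (Y.residueField y) Ω]
        [PreservesFiniteLimits (EtCoh.pull (pullback.fst g (EtAcyc.geomPt Y y Ω)))],
        EtCore.Hpull (pullback.fst g (EtAcyc.geomPt Y y Ω)) ((EtCoh.pull g).obj F) n ξ = 0 := by
  obtain ⟨m, rfl⟩ : ∃ m, n = m + 1 := ⟨n - 1, by omega⟩
  have hm : m + 1 - 1 = m := by omega
  rw [hm] at hglob hloc
  constructor
  · rintro ⟨e, rfl⟩ y Ω _ _ _ _ _
    haveI : IsSepClosed (ResidueField Ω) := AffineEfface.isSepClosed_residueField Ω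
    haveI := EtSite.preservesFiniteLimits_pull (EtAcyc.geomPt Y y Ω)
    haveI := EtSite.subsingleton_H Ω ((EtCoh.pull (EtAcyc.geomPt Y y Ω)).obj F) (m + 1) (Nat.succ_pos m)
    exact Hpull_eq_zero_of_factor (pullback.fst g (EtAcyc.geomPt Y y Ω)) g (pullback.snd g (EtAcyc.geomPt Y y Ω))
      (EtAcyc.geomPt Y y Ω) pullback.condition F (m + 1) e (Subsingleton.elim _ _)
  intro hξ
  have hf := FinBC.geomFibres_of_isAcyclicN g L hL m hglob
  obtain ⟨hu, hR⟩ := unit_of_strict g F m fun y R _ _ _ _ _ _ _ q hq => by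
    obtain ⟨hl', hf'⟩ := strictBase g hloc hf y R
    haveI : QuasiCompact (pullback.snd g (Hens2.specOf Y y R)) :=
      MorphismProperty.pullback_snd (P := @QuasiCompact) _ _ inferInstance
    haveI : QuasiSeparated (pullback.snd g (Hens2.specOf Y y R)) :=
      MorphismProperty.pullback_snd (P := @QuasiSeparated) _ _ inferInstance
    exact bijective_Hpull_le R _ L hL m hl' hf' _ (Groth.L28.AcyComp.isLTorsion_pull _ hF) q hq
  haveI := hu
  refine mem_range_Hpull_of_strict g F m hR ξ fun y R _ _ _ _ _ _ _ => ?_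
  obtain ⟨hl', hf'⟩ := strictBase g hloc hf y R
  let η := Hens2.specOf Y y R
  let g' := pullback.snd g η
  let b := pullback.fst g η
  haveI : QuasiCompact g' := MorphismProperty.pullback_snd (P := @QuasiCompact) _ _ inferInstance
  haveI : QuasiSeparated g' := MorphismProperty.pullback_snd (P := @QuasiSeparated) _ _ inferInstance
  haveI := EtSite.preservesFiniteLimits_pull g'
  let θ := L28.AcycCrit.kap g η g' b pullback.condition
  let T := (EtCoh.HF (pullback g η) (m + 1)).map (θ.inv.app F)
  suffices ht : T (EtCore.Hpull b _ (m + 1) ξ) = 0 from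
    (ConcreteCategory.bijective_of_isIso T).1 (ht.trans (map_zero T.hom).symm)
  refine eq_zero_strict R g' L hL m hl' hf' _ (Groth.L28.AcyComp.isLTorsion_pull η hF) _ ?_
  intro Ω _ _ z _ _ _
  let κz := (Spec (CommRingCat.of R)).residueField z
  letI : Algebra (Y.residueField (η z)) Ω := ((algebraMap κz Ω).comp (η.residueFieldMap z).hom).toAlgebra
  haveI : Algebra.IsAlgebraic (Y.residueField (η z)) Ω := by
    haveI : Algebra.IsIntegral (Y.residueField (η z)) Ω := algebraMap_isIntegral_iff.1
      (RingHom.IsIntegral.trans _ _ (algResidue_specOf y R z) (algebraMap_isIntegral_iff.2 (inferInstance :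
        Algebra.IsIntegral κz Ω)))
    infer_instance
  let pt' := EtAcyc.geomPt (Spec (CommRingCat.of R)) z Ω
  have he : pt' ≫ η = EtAcyc.geomPt Y (η z) Ω := by
    show (Spec.map _ ≫ (Spec (CommRingCat.of R)).fromSpecResidueField z) ≫ η = Spec.map _ ≫ _
    rw [Category.assoc, ← Scheme.Hom.SpecMap_residueFieldMap_fromSpecResidueField, ← Spec.map_comp_assoc]
    rfl
  let c : pullback g' pt' ⟶ pullback g (EtAcyc.geomPt Y (η z) Ω) :=
    pullback.lift (pullback.fst g' pt' ≫ b) (pullback.snd g' pt') (by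
      refine ((Category.assoc _ _ _).trans (congrArg (pullback.fst g' pt' ≫ ·) pullback.condition)).trans ?_
      refine (Category.assoc _ _ _).symm.trans ((congrArg (· ≫ η) pullback.condition).trans ?_)
      exact (Category.assoc _ _ _).trans (congrArg (pullback.snd g' pt' ≫ ·) he))
  haveI := EtSite.preservesFiniteLimits_pull (pullback.fst g (EtAcyc.geomPt Y (η z) Ω))
  refine (Hpull_map _ (θ.inv.app F) (m + 1) _).trans ((congrArg _ ?_).trans (map_zero _))
  exact Hpull_eq_zero_of_factor (pullback.fst g' pt') b c (pullback.fst g (EtAcyc.geomPt Y (η z) Ω))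
    (pullback.lift_fst _ _ _).symm _ (m + 1) ξ (hξ (η z) Ω)

end Groth.L27.MemRange
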