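import Groth.Agent.L27.MemRange.Chart
import Groth.Agent.L27.MemRange.Fibre
import Groth.Agent.L27.XV.Main
import Groth.Agent.L28.AcycCrit.Square

/-! # Classes dying on all geometric fibres over a strictly local base -/

universe u

open CategoryTheory CategoryTheory.Limits AlgebraicGeometry Opposite IsLocalRing Abelian

set_option autoImplicit false
set_option backward.isDefEq.respectTransparency.types false
set_option linter.style.haveILetI false
set_option linter.unusedSectionVars false

noncomputable section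

namespace Groth.L27.MemRange

open Groth.L27.LimCoh Groth.L27.LimBC Groth.L27.FinBC Groth.L27.XV Groth.L27.AffineEfface

attribute [local instance] Groth.L27.AffineEfface.isSepClosed_residueField

/-- The image of a constructible sheaf has finitely many standard stalks. -/
theorem exists_stalk_types {X : Scheme.{u}} [CompactSpace X] [QuasiSeparatedSpace X] {C D : EtCoh.Ab X}
    (hC : EtPBC.IsConstructible C) (p : C ⟶ D) [Epi p] :
    ∃ (ι : Type) (_ : Finite ι) (M : ι → Type) (_ : ∀ i, AddCommGroup (M i)) (_ : ∀ i, Finite (M i))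
      (k : X → ι), ∀ x, Nonempty ((EtCoh.stalk (stdPt x)).obj D ≅ AddCommGrpCat.of (ULift.{u + 1} (M (k x)))) := by
  classical
  obtain ⟨n, M, iM, fM, hM⟩ := exists_finite_types hC
  have key : ∀ x : X, ∃ i : (c : Fin n) × AddSubgroup (M c),
      Nonempty ((EtCoh.stalk (stdPt x)).obj D ≅ AddCommGrpCat.of (ULift.{u + 1} (M i.1 ⧸ i.2))) := by
    intro x
    obtain ⟨c, hc⟩ := hM x
    have hx : (stdPt x).base default = x := by
      refine (Scheme.Hom.comp_apply _ _ _).trans ?_
      exact (congrArg (geom x) (Subsingleton.elim (α := PrimeSpectrum (Kbar x)) _ _)).trans (geom_default x)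
    obtain ⟨e⟩ := hc _ (stdPt x) hx
    let f : M c →+ (EtCoh.stalk (stdPt x)).obj D :=
      (((EtCoh.stalk (stdPt x)).map p).hom.comp e.symm.addCommGroupIsoToAddEquiv.toAddMonoidHom).comp
        AddEquiv.ulift.symm.toAddMonoidHom
    have hf : Function.Surjective f := fun b => by
      obtain ⟨a, rfl⟩ := (EtSite.epi_iff_stalks p).1 inferInstance _ (stdPt x) b
      obtain ⟨a', rfl⟩ := e.symm.addCommGroupIsoToAddEquiv.surjective a
      exact ⟨AddEquiv.ulift a', rfl⟩
    exact ⟨⟨c, f.ker⟩, ⟨((AddEquiv.ulift.trans (QuotientAddGroup.quotientKerEquivOfSurjective f hf)).toAddCommGrpIso).symm⟩⟩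
  choose k hk using key
  exact ⟨(c : Fin n) × AddSubgroup (M c), inferInstance, fun i => M i.1 ⧸ i.2, inferInstance, inferInstance, k, hk⟩

/-- A killed image of a constructible sheaf embeds into a sheaf with no classes dying on all geometric fibres. -/
theorem exists_mono_detect {R : Type u} [CommRing R] {X : Scheme.{u}} (g : X ⟶ Spec (CommRingCat.of R))
    [QuasiCompact g] [QuasiSeparated g] [PreservesFiniteLimits (EtCoh.pull g)] (L : Set ℕ)
    (hL : ∃ ℓ ∈ L, ℓ.Prime) (m : ℕ) (hloc : EtAcyc.IsLocAcyclicN g L m) (hf : EtAcyc.GeomFibresAcyclicN L m g)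
    {C D : EtCoh.Ab (Spec (CommRingCat.of R))} (hC : EtPBC.IsConstructible C) (p : C ⟶ D) [Epi p]
    (hk : DerBC.Killed L D) :
    ∃ (G : EtCoh.Ab (Spec (CommRingCat.of R))) (φ : D ⟶ G), Mono φ ∧ DerBC.Killed L G ∧
      ∀ x : EtCoh.H X ((EtCoh.pull g).obj G) (m + 1),
        (∀ (Ω : Type u) [Field Ω] [IsSepClosed Ω] (z : Spec (CommRingCat.of R))
          [Algebra ((Spec (CommRingCat.of R)).residueField z) Ω]
          [Algebra.IsAlgebraic ((Spec (CommRingCat.of R)).residueField z) Ω]
          [PreservesFiniteLimits (EtCoh.pull (pullback.fst g (EtAcyc.geomPt (Spec (CommRingCat.of R)) z Ω)))],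
          EtCore.Hpull (pullback.fst g (EtAcyc.geomPt (Spec (CommRingCat.of R)) z Ω)) _ (m + 1) x = 0) → x = 0 := by
  classical
  obtain ⟨N, hN, hN0⟩ := hk
  obtain ⟨ι, _, M₀, iM, fM, k₀, hk₀⟩ := exists_stalk_types hC p
  haveI := Fintype.ofFinite ι
  let Cc := {c : ι // ∃ x, k₀ x = c}
  let M : Cc → Type := fun c => M₀ c.1
  let k : Spec (CommRingCat.of R) → Cc := fun x => ⟨k₀ x, x, rfl⟩
  have hMN : ∀ (c : Cc) (t : M c), N • t = 0 := by
    rintro ⟨c, x, rfl⟩ t
    obtain ⟨e⟩ := hk₀ x
    obtain ⟨v, hv⟩ := (ConcreteCategory.bijective_of_isIso e.hom).2 (ULift.up t)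
    have h1 : N • v = 0 := by
      refine (XV.map_nsmul_id_apply D N (stdPt x) v).symm.trans ?_
      haveI : (EtCoh.stalk (stdPt x)).Additive := Functor.additive_of_preserves_binary_products _
      rw [hN0, Functor.map_zero]
      rfl
    have h2 : N • (ULift.up t : ULift.{u + 1} (M₀ (k₀ x))) = 0 := by
      rw [← hv]; exact (map_nsmul e.hom.hom N v).symm.trans ((congrArg _ h1).trans (map_zero _))
    exact congrArg ULift.down h2
  have hdet := fun c : Cc => exists_detect_pt D {x | k x = c} (M c) fun x hx => by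
    obtain rfl : k x = c := hx
    exact hk₀ x
  choose K iK aK alK φ hinj using hdet
  let Y : Cc → Scheme.{u} := fun c => Spec (CommRingCat.of (PR R (K c)))
  let ν : ∀ c, Y c ⟶ Spec (CommRingCat.of R) := fun c => Spec.map (CommRingCat.ofHom (algebraMap R (PR R (K c))))
  haveI hν : ∀ c, IsIntegralHom (ν c) := fun c => IsIntegralHom.SpecMap_iff.2 (algebraMap_isIntegral_iff.2 inferInstance)
  let f : Cc → EtCoh.Ab (Spec (CommRingCat.of R)) := fun c => (EtCoh.push (ν c)).obj (EtCoh.const (Y c) (M c))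
  have hNM : ∀ c, N • 𝟙 (EtCoh.const (Y c) (M c)) = 0 := fun c => by
    haveI : (EtCore.gsec (Y c)).Additive := { }
    haveI : (constantSheaf (Y c).smallEtaleTopology AddCommGrpCat.{u + 1}).Additive :=
      (EtCore.constAdj (Y c)).left_adjoint_additive
    have h : N • 𝟙 (AddCommGrpCat.of (ULift.{u + 1} (M c))) = 0 := by
      refine ConcreteCategory.hom_ext _ _ fun t => ?_
      let e : (AddCommGrpCat.of (ULift.{u + 1} (M c)) ⟶ AddCommGrpCat.of (ULift.{u + 1} (M c))) →+
          ULift.{u + 1} (M c) := AddMonoidHom.mk' (fun g => g t) fun _ _ => rfl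
      exact (map_nsmul e N (𝟙 _)).trans (ULift.ext _ _ (hMN c (t : ULift.{u + 1} (M c)).down))
    show N • 𝟙 ((constantSheaf (Y c).smallEtaleTopology AddCommGrpCat.{u + 1}).obj _) = 0
    rw [← CategoryTheory.Functor.map_id, ← Functor.map_nsmul, h, Functor.map_zero]
  refine ⟨⨁ f, biproduct.lift φ, ?_, ?_, fun x hx => ?_⟩
  · haveI : Sheaf.IsLocallyInjective (biproduct.lift φ) := by
      refine EtSite.isLocallyInjective_of_some_stalks _ fun x => ?_
      obtain ⟨Ω, _, _, ξ, hξ, hi⟩ := hinj (k x) x rfl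
      refine ⟨Ω, inferInstance, inferInstance, ξ, hξ, fun a b hab => hi ?_⟩
      have h := congrArg ((EtCoh.stalk ξ).map (biproduct.π f (k x))) hab
      have e : (EtCoh.stalk ξ).map (biproduct.lift φ) ≫ (EtCoh.stalk ξ).map (biproduct.π f (k x)) =
          (EtCoh.stalk ξ).map (φ (k x)) := by rw [← Functor.map_comp, biproduct.lift_π]
      exact (ConcreteCategory.congr_hom e a).symm.trans (h.trans (ConcreteCategory.congr_hom e b))
    exact Sheaf.mono_of_isLocallyInjective _
  · refine ⟨N, hN, biproduct.hom_ext' _ _ fun c => ?_⟩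
    rw [Preadditive.comp_nsmul, Category.comp_id, comp_zero, ← Category.id_comp (biproduct.ι f c),
      ← Preadditive.nsmul_comp, nsmul_id_push (ν c) _ (hNM c), zero_comp]
  let P := EtCoh.pull g ⋙ EtCoh.HF X (m + 1)
  haveI : P.Additive := by
    haveI : (EtCoh.pull g).Additive := (EtCoh.pullPushAdj g).left_adjoint_additive
    infer_instance
  suffices hc : ∀ c, P.map (biproduct.π f c) x = 0 by
    have h := congrArg (fun ψ => ψ x) (congrArg P.map (biproduct.total (f := f)))
    simp only [Functor.map_sum, CategoryTheory.Functor.map_id] at h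
    let ev : (P.obj (⨁ f) ⟶ P.obj (⨁ f)) →+ P.obj (⨁ f) := AddMonoidHom.mk' (fun g => g x) fun _ _ => rfl
    refine (ConcreteCategory.id_apply (X := P.obj (⨁ f)) x).symm.trans (h.symm.trans ((map_sum ev _ _).trans ?_))
    exact Finset.sum_eq_zero fun c _ => by
      show (P.map _) x = 0
      rw [Functor.map_comp, ConcreteCategory.comp_apply, hc c, map_zero]
  intro c
  let w := pullback.fst g (ν c)
  let kc := pullback.snd g (ν c)
  haveI : IsIntegralHom w := MorphismProperty.pullback_fst (P := @IsIntegralHom) _ _ inferInstance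
  haveI := EtSite.preservesFiniteLimits_pull w
  haveI := EtSite.preservesFiniteLimits_pull (ν c)
  haveI : Subsingleton (EtCoh.H (Y c) (EtCoh.const (Y c) (M c)) (m + 1)) := by
    obtain ⟨T, hT₁, hT₂, hT₃, j, hj, hNT⟩ := exists_closedImmersion R (K c)
    haveI := hj
    exact Groth.Agent.S0091.result hNT j (M c) (m + 1) (Nat.succ_pos m)
  let KA := AddCommGrpCat.of (ULift.{u + 1} (M c))
  haveI : Subsingleton (EtCoh.H (Spec (CommRingCat.of (PR R (K c)))) (ConstSect.K KA _) (m + 1)) := this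
  haveI := EtSite.BC.isIso_baseChange0 (IsPullback.of_hasPullback g (ν c)).flip (EtCoh.const (Y c) (M c))
  let i₁ : (EtCoh.pull g).obj (f c) ≅ (EtCoh.push w).obj (EtCoh.const _ (M c)) :=
    asIso (EtCoh.baseChange0 (ν c) g w kc (IsPullback.of_hasPullback g (ν c)).flip.w (EtCoh.const (Y c) (M c))) ≪≫
      (EtCoh.push w).mapIso (EtCore.pullConst kc (M c))
  let x₁ : EtCoh.H X ((EtCoh.pull g).obj (f c)) (m + 1) :=
    (EtCoh.HF X (m + 1)).map ((EtCoh.pull g).map (biproduct.π f c)) x
  show x₁ = 0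
  let ω := EtLim.HofPush w (EtCoh.const _ (M c)) (m + 1) ((EtCoh.HF X (m + 1)).map i₁.hom x₁)
  have hω : ω = 0 := by
    refine eq_zero_localDomain g L hL m hloc hf (PR R (K c)) L20.IntCover.hasRoots_closure
      (fun t ht => @L20.IntCover.isDomain_localization _ _ _ _ _ _ _ t ht) w kc (IsPullback.of_hasPullback g (ν c))
      KA (fun t => ⟨N, hN, ULift.ext _ _ (hMN c t.down)⟩) ω fun Ω _ _ z _ _ U h cc hcc _ => ?_
    haveI := EtSite.preservesFiniteLimits_pull (pullback.fst g (EtAcyc.geomPt (Spec (CommRingCat.of R)) z Ω))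
    show EtCore.Hpull h _ (m + 1) (EtLim.HofPush w (EtCoh.const _ (M c)) (m + 1) _) = 0
    rw [EtSite.HofPush_def]
    refine (Hpull_map h _ _ _).trans ((congrArg _ ?_).trans (map_zero _))
    refine Hpull_eq_zero_of_factor h w cc _ hcc _ (m + 1) _ ?_
    refine (Hpull_map _ i₁.hom (m + 1) x₁).trans ((congrArg _ ?_).trans (map_zero _))
    exact (Hpull_map _ _ _ x).trans ((congrArg _ (hx Ω z)).trans (map_zero _))
  have hbij := EtSite.bijective_HofPush w (EtCoh.const (pullback g (ν c)) (M c))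
    (fun p hp => EtSite.isZero_Rpush_of_propB w (EtSite.propB_of_isIntegralHom w) _ p hp) (m + 1)
  have h2 := hbij.1 (hω.trans (map_zero _).symm)
  exact (ConcreteCategory.bijective_of_isIso ((EtCoh.HF X (m + 1)).map i₁.hom)).1 (h2.trans (map_zero _).symm)

/-- Bijectivity over a strictly local base in the acyclicity range. -/
theorem bijective_Hpull_le (R : Type u) [CommRing R] [HenselianLocalRing R] [IsSepClosed (ResidueField R)]
    {X : Scheme.{u}} (g : X ⟶ Spec (CommRingCat.of R)) [QuasiCompact g] [QuasiSeparated g]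
    [PreservesFiniteLimits (EtCoh.pull g)] (L : Set ℕ) (hL : ∃ ℓ ∈ L, ℓ.Prime) (m : ℕ)
    (hloc : EtAcyc.IsLocAcyclicN g L m) (hf : EtAcyc.GeomFibresAcyclicN L m g)
    (F : EtCoh.Ab (Spec (CommRingCat.of R))) (hF : EtAcyc.IsLTorsion L F) (q : ℕ) (hq : q ≤ m) :
    Function.Bijective (EtCore.Hpull g F q) := by
  cases m with
  | zero =>
    obtain rfl := Nat.le_zero.1 hq
    exact bijective_zero R g (surjStrict_of_loc g L hL 0 hloc) hf F
  | succ p => exact bijective_Hpull_strict R g L hL p (isLocAcyclicN_mono (Nat.le_succ p) hloc) hf F hF q hq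

/-- A class dying on every geometric fibre over a strictly local base is zero. -/
theorem eq_zero_strict (R : Type u) [CommRing R] [HenselianLocalRing R] [IsSepClosed (ResidueField R)]
    {X : Scheme.{u}} (g : X ⟶ Spec (CommRingCat.of R)) [QuasiCompact g] [QuasiSeparated g]
    [PreservesFiniteLimits (EtCoh.pull g)] (L : Set ℕ) (hL : ∃ ℓ ∈ L, ℓ.Prime) (m : ℕ)
    (hloc : EtAcyc.IsLocAcyclicN g L m) (hf : EtAcyc.GeomFibresAcyclicN L m g)
    (F : EtCoh.Ab (Spec (CommRingCat.of R))) (hF : EtAcyc.IsLTorsion L F)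
    (ξ : EtCoh.H X ((EtCoh.pull g).obj F) (m + 1))
    (hξ : ∀ (Ω : Type u) [Field Ω] [IsSepClosed Ω] (z : Spec (CommRingCat.of R))
      [Algebra ((Spec (CommRingCat.of R)).residueField z) Ω]
      [Algebra.IsAlgebraic ((Spec (CommRingCat.of R)).residueField z) Ω]
      [PreservesFiniteLimits (EtCoh.pull (pullback.fst g (EtAcyc.geomPt (Spec (CommRingCat.of R)) z Ω)))],
      EtCore.Hpull (pullback.fst g (EtAcyc.geomPt (Spec (CommRingCat.of R)) z Ω)) _ (m + 1) ξ = 0) : ξ = 0 := by
  haveI : CompactSpace X := QuasiCompact.compactSpace_of_compactSpace g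
  haveI : QuasiSeparatedSpace X := quasiSeparatedSpace_of_quasiSeparated g
  obtain ⟨hc⟩ := L28.ExtShriek.isColimit_presCocone (F := F) (AffineEfface.isTorsion_of_isLTorsion hF)
  haveI : PreservesColimitsOfSize.{u + 1, u + 1} (EtCoh.pull g) :=
    (EtCoh.pullPushAdj g).leftAdjoint_preservesColimits
  obtain ⟨j, η, hη⟩ := (L28.ColimBig.commutes Colim.good (EtCore.topIsTerminal X) ⟨‹_›, ‹_›⟩ (m + 1)
    (L28.ExtShriek.presDiag F ⋙ EtCoh.pull g) ((EtCoh.pull g).mapCocone (L28.ExtShriek.presCocone F))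
    (isColimitOfPreserves (EtCoh.pull g) hc)).1 ξ
  obtain ⟨C, π, φ', hC, hCk, hfac⟩ :=
    exists_killed_factor j.1.isConstructible_obj ((L28.ExtShriek.presCocone F).ι.app j) hF
  let D := Abelian.image φ'
  let p : C ⟶ D := Abelian.factorThruImage φ'
  let i : D ⟶ F := Abelian.image.ι φ'
  have hDk : DerBC.Killed L D := DerBC.Killed.of_epi p hCk
  let x : EtCoh.H X ((EtCoh.pull g).obj D) (m + 1) :=
    (EtCoh.HF X (m + 1)).map ((EtCoh.pull g).map (π ≫ p)) η
  have hxi : (EtCoh.HF X (m + 1)).map ((EtCoh.pull g).map i) x = ξ := by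
    rw [← HF_map_comp, ← Functor.map_comp, Category.assoc, show p ≫ i = φ' from Abelian.image.fac φ', hfac]
    exact hη
  suffices hx0 : x = 0 by rw [← hxi, hx0]; exact map_zero _
  let E := ShortComplex.mk i (cokernel.π i) (cokernel.condition i)
  have hE : E.ShortExact := { exact := ShortComplex.exact_of_g_is_cokernel _ (cokernelIsCokernel i) }
  have hQ : EtAcyc.IsLTorsion L E.X₃ := CompTransfer.isLTorsion_of_epi (cokernel.π i) hF
  obtain ⟨G, φ, _, hGk, hG⟩ := exists_mono_detect g L hL m hloc hf hC p hDk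
  have hfib : ∀ (Ω : Type u) [Field Ω] [IsSepClosed Ω] (z : Spec (CommRingCat.of R))
      [Algebra ((Spec (CommRingCat.of R)).residueField z) Ω]
      [Algebra.IsAlgebraic ((Spec (CommRingCat.of R)).residueField z) Ω]
      [PreservesFiniteLimits (EtCoh.pull (pullback.fst g (EtAcyc.geomPt (Spec (CommRingCat.of R)) z Ω)))],
      EtCore.Hpull (pullback.fst g (EtAcyc.geomPt (Spec (CommRingCat.of R)) z Ω)) _ (m + 1) x = 0 := by
    intro Ω _ _ z _ _ _
    let pt := EtAcyc.geomPt (Spec (CommRingCat.of R)) z Ω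
    let fΩ := pullback.fst g pt
    let kΩ := pullback.snd g pt
    haveI : QuasiCompact kΩ := MorphismProperty.pullback_snd (P := @QuasiCompact) _ _ inferInstance
    haveI : QuasiSeparated kΩ := MorphismProperty.pullback_snd (P := @QuasiSeparated) _ _ inferInstance
    haveI : CompactSpace ↥(pullback g pt) := QuasiCompact.compactSpace_of_compactSpace kΩ
    haveI : QuasiSeparatedSpace ↥(pullback g pt) := quasiSeparatedSpace_of_quasiSeparated kΩ
    haveI := EtSite.preservesFiniteLimits_pull pt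
    haveI := EtSite.preservesFiniteLimits_pull kΩ
    let θ := L28.AcycCrit.kap g pt kΩ fΩ pullback.condition
    let a := EtCore.Hpull fΩ _ (m + 1) x
    let T := (EtCoh.HF (pullback g pt) (m + 1)).map (θ.inv.app D)
    suffices ht : T a = 0 from (ConcreteCategory.bijective_of_isIso T).1 (ht.trans (map_zero T.hom).symm)
    refine eq_zero_on_fibre kΩ L m (hf z Ω) (hE.map_of_exact (EtCoh.pull pt))
      (L28.AcyComp.isLTorsion_pull pt hQ) (T a) ?_
    have hn : θ.inv.app D ≫ (EtCoh.pull kΩ).map ((EtCoh.pull pt).map i) =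
        (EtCoh.pull fΩ).map ((EtCoh.pull g).map i) ≫ θ.inv.app F := (θ.inv.naturality i).symm
    refine (HF_map_comp _ _ _ a).symm.trans ?_
    refine (congrArg (fun t => (EtCoh.HF (pullback g pt) (m + 1)).map t a) hn).trans ?_
    refine (HF_map_comp _ _ _ a).trans ?_
    refine (congrArg _ ?_).trans (map_zero _)
    refine (Hpull_map fΩ ((EtCoh.pull g).map i) (m + 1) x).symm.trans ?_
    rw [hxi]
    exact hξ Ω z
  let E' := ShortComplex.mk φ (cokernel.π φ) (cokernel.condition φ)
  have hE' : E'.ShortExact := { exact := ShortComplex.exact_of_g_is_cokernel _ (cokernelIsCokernel φ) }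
  have hQ' : EtAcyc.IsLTorsion L E'.X₃ := (DerBC.Killed.of_epi (cokernel.π φ) hGk).isLTorsion
  obtain ⟨y, hy⟩ := LimCoh.exists_δH (hE'.map_of_exact (EtCoh.pull g)) m x (hG _ fun Ω _ _ z _ _ _ =>
    (Hpull_map _ ((EtCoh.pull g).map φ) _ x).trans ((congrArg _ (hfib Ω z)).trans (map_zero _)))
  obtain ⟨z, rfl⟩ := (bijective_Hpull_le R g L hL m hloc hf E'.X₃ hQ' m le_rfl).2 y
  rw [← hy, ← LimCoh.Hpull_δH g hE' m z]
  haveI := EtSite.subsingleton_H R E'.X₁ (m + 1) (Nat.succ_pos m)
  exact (congrArg _ (Subsingleton.elim (α := EtCoh.H (Spec (CommRingCat.of R)) E'.X₁ (m + 1)) _ 0)).trans (map_zero _)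

end Groth.L27.MemRange
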